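import Groth.Agent.H95.NodeSwap
import Mathlib.RingTheory.PowerSeries.Substitution

/-!
# Involutions of the node algebra
-/

set_option autoImplicit false

open Groth.Agent.H95.NodeSwap

noncomputable section

namespace Groth.Agent.Lib.NodeInvol

universe u

variable {k : Type u} [Field k]

local notation "PS" => PowerSeries k
local notation "A₁" => ArSing.ring k 1
local notation "U" => ArSing.x k 1 + ArSing.y k 1
local notation "V" => ArSing.y k 1 - ArSing.x k 1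

variable (h2 : (2 : k) ≠ 0)

include h2 in
theorem hext {ψ ψ' : A₁ →ₐ[k] PS} (e1 : ψ U = ψ' U) (e2 : ψ V = ψ' V) (m1 : ψ U ∈ m₁ k)
    (m2 : ψ V ∈ m₁ k) : ψ = ψ' := by
  have hx2 : ∀ θ : A₁ →ₐ[k] PS, θ (ArSing.x k 1) = PowerSeries.C 2⁻¹ * (θ U - θ V) ∧
      θ (ArSing.y k 1) = PowerSeries.C 2⁻¹ * (θ U + θ V) := by
    intro θ
    constructor <;> rw [map_add, map_sub]
    · linear_combination (-θ (ArSing.x k 1)) * half h2
    · linear_combination (-θ (ArSing.y k 1)) * half h2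
  have := hom_ext (ψ.comp (Ideal.Quotient.mkₐ k _)) (ψ'.comp (Ideal.Quotient.mkₐ k _)) (m₁ k) m₁_ne
    (fun i => by
      fin_cases i
      · exact (hx2 ψ).1.trans (by rw [e1, e2]; exact (hx2 ψ').1.symm)
      · exact (hx2 ψ).2.trans (by rw [e1, e2]; exact (hx2 ψ').2.symm))
    (fun i => by
      fin_cases i
      · exact (hx2 ψ).1.symm ▸ Ideal.mul_mem_left _ _ (sub_mem m1 m2)
      · exact (hx2 ψ).2.symm ▸ Ideal.mul_mem_left _ _ (add_mem m1 m2))
  ext q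
  obtain ⟨f, rfl⟩ := Ideal.Quotient.mk_surjective q
  exact congrArg _ (AlgHom.congr_fun this f)

theorem hasSubst {p : PS} (hp : p ∈ m₁ k) : PowerSeries.HasSubst p :=
  PowerSeries.HasSubst.of_constantCoeff_zero' hp

/-- Substitution of `p` for `t`. -/
def sub (p : PS) (hp : p ∈ m₁ k) : PS →ₐ[k] PS := PowerSeries.substAlgHom (hasSubst hp)

theorem sub_X (p : PS) (hp : p ∈ m₁ k) : sub p hp PowerSeries.X = p :=
  PowerSeries.substAlgHom_X (hasSubst hp)

theorem constantCoeff_sub (p : PS) (hp : p ∈ m₁ k) (F : PS) :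
    PowerSeries.constantCoeff (sub p hp F) = PowerSeries.constantCoeff F := by
  obtain ⟨G, hG⟩ := dvd_split F
  conv_lhs => rw [hG, map_add, map_mul, sub_X, AlgHom.commutes]
  rw [map_add, map_mul, show PowerSeries.constantCoeff p = 0 from hp, zero_mul, add_zero,
    ← PowerSeries.C_eq_algebraMap, PowerSeries.constantCoeff_C]

theorem sub_mem (p : PS) (hp : p ∈ m₁ k) {F : PS} (hF : F ∈ m₁ k) : sub p hp F ∈ m₁ k := by
  show PowerSeries.constantCoeff (sub p hp F) = 0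
  rw [constantCoeff_sub]; exact hF

theorem coeff_one_sub (p : PS) (hp : p ∈ m₁ k) {F : PS} (hF : F ∈ m₁ k) :
    PowerSeries.coeff 1 (sub p hp F) = PowerSeries.coeff 1 p * PowerSeries.coeff 1 F := by
  obtain ⟨G, rfl⟩ := PowerSeries.X_dvd_iff.2 hF
  rw [map_mul, sub_X, PowerSeries.coeff_one_mul, constantCoeff_sub,
    show PowerSeries.constantCoeff p = 0 from hp, mul_zero, add_zero, mul_comm PowerSeries.X,
    PowerSeries.coeff_succ_mul_X, PowerSeries.coeff_zero_eq_constantCoeff_apply]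

theorem glue_zero_one : (glue (1 : PS) 1 : A₁) = 1 := by simp [glue]

/-- A pair of substitutions, as an endomorphism of the node. -/
def pair (P Q : PS) (hP : P ∈ m₁ k) (hQ : Q ∈ m₁ k) : A₁ →ₐ[k] A₁ where
  toFun q := glue (sub P hP (π₁ q)) (sub Q hQ (π₂ q))
  map_one' := by simp [glue]
  map_mul' a b := by
    simp only [map_mul]
    refine glue_mul _ _ _ _ ?_ ?_ <;> rw [constantCoeff_sub, constantCoeff_sub, constantCoeff_eq]
  map_zero' := by simp [glue]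
  map_add' a b := by simp [glue]; ring
  commutes' r := by
    simp only [glue, AlgHom.commutes]
    rw [show algebraMap k PS r = PowerSeries.C r from rfl, PowerSeries.constantCoeff_C]
    ring

theorem π₁_pair (P Q : PS) (hP : P ∈ m₁ k) (hQ : Q ∈ m₁ k) (q : A₁) (h2 : (2 : k) ≠ 0) :
    π₁ (pair P Q hP hQ q) = sub P hP (π₁ q) :=
  π₁_glue h2 _ _ (by rw [constantCoeff_sub, constantCoeff_sub, constantCoeff_eq])

theorem π₂_pair (P Q : PS) (hP : P ∈ m₁ k) (hQ : Q ∈ m₁ k) (q : A₁) (h2 : (2 : k) ≠ 0) :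
    π₂ (pair P Q hP hQ q) = sub Q hQ (π₂ q) := π₂_glue h2 _ _

include h2 in
theorem exists_aut (P Q : PS) (hP : P ∈ m₁ k) (hQ : Q ∈ m₁ k) (hP1 : PowerSeries.coeff 1 P ≠ 0)
    (hQ1 : PowerSeries.coeff 1 Q ≠ 0) :
    ∃ φ : A₁ ≃ₐ[k] A₁, π₁ (φ U) = P ∧ π₂ (φ U) = 0 ∧ π₁ (φ V) = 0 ∧ π₂ (φ V) = Q := by
  have hP' := IsUnit.mk0 _ hP1
  have hQ' := IsUnit.mk0 _ hQ1
  set P' := P.substInvOfIsUnit hP'
  set Q' := Q.substInvOfIsUnit hQ'
  have mP' : P' ∈ m₁ k := PowerSeries.constantCoeff_substInvOfIsUnit P hP'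
  have mQ' : Q' ∈ m₁ k := PowerSeries.constantCoeff_substInvOfIsUnit Q hQ'
  have hc : ∀ (F G : PS) (hF : F ∈ m₁ k) (hG : G ∈ m₁ k), sub G hG F = PowerSeries.X →
      ∀ z, sub G hG (sub F hF z) = z := by
    intro F G hF hG h z
    have : (sub G hG).comp (sub F hF) = AlgHom.id k PS := hom_ext₁ _ _ (m₁ k) m₁_ne
      (by rw [AlgHom.comp_apply, sub_X, h]; rfl) (by rw [AlgHom.comp_apply, sub_X, h]; exact X_mem)
    exact AlgHom.congr_fun this z
  have cP : ∀ z, sub P hP (sub P' mP' z) = z := hc P' P mP' hP (by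
    rw [sub, PowerSeries.coe_substAlgHom]; exact PowerSeries.subst_substInvOfIsUnit_left P hP hP')
  have cP' : ∀ z, sub P' mP' (sub P hP z) = z := hc P P' hP mP' (by
    rw [sub, PowerSeries.coe_substAlgHom]; exact PowerSeries.subst_substInvOfIsUnit_right P hP hP')
  have cQ : ∀ z, sub Q hQ (sub Q' mQ' z) = z := hc Q' Q mQ' hQ (by
    rw [sub, PowerSeries.coe_substAlgHom]; exact PowerSeries.subst_substInvOfIsUnit_left Q hQ hQ')
  have cQ' : ∀ z, sub Q' mQ' (sub Q hQ z) = z := hc Q Q' hQ mQ' (by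
    rw [sub, PowerSeries.coe_substAlgHom]; exact PowerSeries.subst_substInvOfIsUnit_right Q hQ hQ')
  refine ⟨AlgEquiv.ofAlgHom (pair P Q hP hQ) (pair P' Q' mP' mQ') ?_ ?_, ?_, ?_, ?_, ?_⟩
  · ext q
    exact eq_of_π h2 (by simp [π₁_pair _ _ _ _ _ h2, cP]) (by simp [π₂_pair _ _ _ _ _ h2, cQ])
  · ext q
    exact eq_of_π h2 (by simp [π₁_pair _ _ _ _ _ h2, cP']) (by simp [π₂_pair _ _ _ _ _ h2, cQ'])
  all_goals simp only [AlgEquiv.ofAlgHom_apply, π₁_pair _ _ _ _ _ h2, π₂_pair _ _ _ _ _ h2, π₁_U h2,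
    π₂_U, π₁_V, π₂_V h2, sub_X, map_zero]

include h2 in
theorem isUnit_of_constantCoeff {q : A₁} (h : PowerSeries.constantCoeff (π₁ q) ≠ 0) : IsUnit q := by
  refine .of_mul_eq_one (glue (π₁ q)⁻¹ (π₂ q)⁻¹) (eq_of_π h2 ?_ ?_)
  · rw [map_mul, map_one, π₁_glue h2 _ _ (by simp [constantCoeff_eq]), PowerSeries.mul_inv_cancel _ h]
  · rw [map_mul, map_one, π₂_glue h2, PowerSeries.mul_inv_cancel _ (by rwa [constantCoeff_eq])]

include h2 in
theorem map_mem (σ : A₁ ≃ₐ[k] A₁) {q : A₁} (hq : PowerSeries.constantCoeff (π₁ q) = 0) :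
    π₁ (σ q) ∈ m₁ k ∧ π₂ (σ q) ∈ m₁ k := by
  have h : PowerSeries.constantCoeff (π₁ (σ q)) = 0 := by
    by_contra h
    have hu := (isUnit_of_constantCoeff h2 h).map σ.symm
    rw [AlgEquiv.symm_apply_apply] at hu
    exact (PowerSeries.isUnit_constantCoeff _ (hu.map π₁)).ne_zero hq
  exact ⟨h, show PowerSeries.constantCoeff (π₂ (σ q)) = 0 by rw [constantCoeff_eq]; exact h⟩

include h2 in
theorem eq_refl_of_fixed (σ φ : A₁ ≃ₐ[k] A₁) (hU : σ (φ U) = φ U) (hV : σ (φ V) = φ V) :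
    σ = AlgEquiv.refl := by
  have cU : PowerSeries.constantCoeff (π₁ (U : A₁)) = 0 := by rw [π₁_U h2]; exact X_mem
  have cV : PowerSeries.constantCoeff (π₁ (V : A₁)) = 0 := by rw [π₁_V, map_zero]
  have h1 : π₁.comp ((σ : A₁ →ₐ[k] A₁).comp (φ : A₁ →ₐ[k] A₁)) = π₁.comp (φ : A₁ →ₐ[k] A₁) :=
    hext h2 (congrArg π₁ hU) (congrArg π₁ hV)
      (by show π₁ (σ (φ U)) ∈ m₁ k; rw [hU]; exact (map_mem h2 φ cU).1)
      (by show π₁ (σ (φ V)) ∈ m₁ k; rw [hV]; exact (map_mem h2 φ cV).1)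
  have h1' : π₂.comp ((σ : A₁ →ₐ[k] A₁).comp (φ : A₁ →ₐ[k] A₁)) = π₂.comp (φ : A₁ →ₐ[k] A₁) :=
    hext h2 (congrArg π₂ hU) (congrArg π₂ hV)
      (by show π₂ (σ (φ U)) ∈ m₁ k; rw [hU]; exact (map_mem h2 φ cU).2)
      (by show π₂ (σ (φ V)) ∈ m₁ k; rw [hV]; exact (map_mem h2 φ cV).2)
  refine AlgEquiv.ext fun z => ?_
  obtain ⟨w, rfl⟩ := φ.surjective z
  exact eq_of_π h2 (AlgHom.congr_fun h1 w) (AlgHom.congr_fun h1' w)

include h2 in
theorem main (σ : A₁ ≃ₐ[k] A₁) (hσ : ∀ a, σ (σ a) = a) (hne : σ ≠ AlgEquiv.refl) :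
    ∃ φ : A₁ ≃ₐ[k] A₁,
      (φ.symm (σ (φ (ArSing.x k 1))) = ArSing.x k 1 ∧ φ.symm (σ (φ (ArSing.y k 1))) = -ArSing.y k 1) ∨
      (φ.symm (σ (φ (ArSing.x k 1))) = -ArSing.x k 1 ∧ φ.symm (σ (φ (ArSing.y k 1))) = -ArSing.y k 1) ∨
      (φ.symm (σ (φ (ArSing.x k 1))) = ArSing.y k 1 ∧ φ.symm (σ (φ (ArSing.y k 1))) = ArSing.x k 1) := by
  have cU : PowerSeries.constantCoeff (π₁ (U : A₁)) = 0 := by rw [π₁_U h2]; exact X_mem
  have cV : PowerSeries.constantCoeff (π₁ (V : A₁)) = 0 := by rw [π₁_V, map_zero]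
  have hU0 : (U : A₁) ≠ 0 := fun h => PowerSeries.X_ne_zero (R := k) (by rw [← π₁_U h2, h, map_zero])
  have hV0 : (V : A₁) ≠ 0 := fun h => PowerSeries.X_ne_zero (R := k) (by rw [← π₂_V h2, h, map_zero])
  have h2A : IsUnit (2 : A₁) := by
    rw [← map_ofNat (algebraMap k A₁) 2]
    exact (IsUnit.mk0 _ h2).map _
  have hxU : ∀ φ : A₁ →ₐ[k] A₁, 2 * φ (ArSing.x k 1) = φ U - φ V := fun φ => by
    rw [map_add, map_sub]; ring
  have hyU : ∀ φ : A₁ →ₐ[k] A₁, 2 * φ (ArSing.y k 1) = φ U + φ V := fun φ => by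
    rw [map_add, map_sub]; ring
  -- from the action on `φ U`, `φ V` to the action on `x`, `y`
  have conv : ∀ (φ : A₁ ≃ₐ[k] A₁) (s t : A₁), σ (φ U) - σ (φ V) = 2 * φ s →
      σ (φ U) + σ (φ V) = 2 * φ t →
      φ.symm (σ (φ (ArSing.x k 1))) = s ∧ φ.symm (σ (φ (ArSing.y k 1))) = t := by
    intro φ s t hs ht
    refine ⟨φ.symm_apply_eq.2 (h2A.mul_left_cancel ?_), φ.symm_apply_eq.2 (h2A.mul_left_cancel ?_)⟩
    · exact (hxU ((σ : A₁ →ₐ[k] A₁).comp (φ : A₁ →ₐ[k] A₁))).trans hs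
    · exact (hyU ((σ : A₁ →ₐ[k] A₁).comp (φ : A₁ →ₐ[k] A₁))).trans ht
  obtain ⟨mU₁, mU₂⟩ := map_mem h2 σ cU
  obtain ⟨mV₁, mV₂⟩ := map_mem h2 σ cV
  have h1 : π₁ (σ U) * π₁ (σ V) = 0 := by rw [← map_mul, ← map_mul, UV, map_zero, map_zero]
  have h1' : π₂ (σ U) * π₂ (σ V) = 0 := by rw [← map_mul, ← map_mul, UV, map_zero, map_zero]
  have hnotU : ¬ (π₁ (σ U) = 0 ∧ π₂ (σ U) = 0) := fun h =>
    hU0 (σ.injective ((eq_of_π h2 (by rw [h.1, map_zero]) (by rw [h.2, map_zero])).trans (map_zero σ).symm))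
  have hnotV : ¬ (π₁ (σ V) = 0 ∧ π₂ (σ V) = 0) := fun h =>
    hV0 (σ.injective ((eq_of_π h2 (by rw [h.1, map_zero]) (by rw [h.2, map_zero])).trans (map_zero σ).symm))
  rcases mul_eq_zero.1 h1 with hS | hP
  · -- the branches are exchanged
    have hS₂ : π₂ (σ V) = 0 := (mul_eq_zero.1 h1').resolve_left fun h => hnotU ⟨hS, h⟩
    have e1 : π₁.comp (σ : A₁ →ₐ[k] A₁) = (sub (π₁ (σ V)) mV₁).comp π₂ := hext h2
      (by show π₁ (σ U) = sub _ mV₁ (π₂ U); rw [hS, π₂_U, map_zero])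
      (by show π₁ (σ V) = sub _ mV₁ (π₂ V); rw [π₂_V h2, sub_X])
      (by show π₁ (σ U) ∈ m₁ k; exact mU₁) (by show π₁ (σ V) ∈ m₁ k; exact mV₁)
    set b := π₂ (σ U) with hb
    have hab : sub (π₁ (σ V)) mV₁ b = PowerSeries.X := by
      have := AlgHom.congr_fun e1 (σ U)
      simp only [AlgHom.comp_apply, AlgEquiv.coe_toAlgHom, hσ] at this
      rw [π₁_U h2] at this
      exact this.symm
    have hb1 : PowerSeries.coeff 1 (-b) ≠ 0 := by
      rw [map_neg, neg_ne_zero]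
      intro h
      have := congrArg (PowerSeries.coeff 1) hab
      rw [coeff_one_sub _ _ mU₂, h, mul_zero, PowerSeries.coeff_one_X] at this
      exact zero_ne_one this
    obtain ⟨φ, u1, u2, v1, v2⟩ := exists_aut h2 PowerSeries.X (-b) X_mem (neg_mem mU₂) (by simp) hb1
    refine ⟨φ, Or.inl ?_⟩
    have eU : φ U = U := eq_of_π h2 (by rw [u1, π₁_U h2]) (by rw [u2, π₂_U])
    have eV : φ V = -σ U := eq_of_π h2 (by rw [v1, map_neg, hS, neg_zero]) (by rw [v2, map_neg])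
    have sV : σ (φ V) = -U := by rw [eV, map_neg, hσ]
    have sU : σ (φ U) = -φ V := by rw [eU, eV, neg_neg]
    refine conv φ _ _ ?_ ?_
    · rw [sU, sV, show (2 : A₁) * φ (ArSing.x k 1) = φ U - φ V from hxU (φ : A₁ →ₐ[k] A₁), eU]; ring
    · have e := show (2 : A₁) * φ (ArSing.y k 1) = φ U + φ V from hyU (φ : A₁ →ₐ[k] A₁)
      rw [eU] at e
      rw [sU, sV, map_neg φ]
      linear_combination e
  · -- the branches are preserved
    have hP₂ : π₂ (σ U) = 0 := (mul_eq_zero.1 h1').resolve_right fun h => hnotV ⟨hP, h⟩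
    have e1 : π₁.comp (σ : A₁ →ₐ[k] A₁) = (sub (π₁ (σ U)) mU₁).comp π₁ := hext h2
      (by show π₁ (σ U) = sub _ mU₁ (π₁ U); rw [π₁_U h2, sub_X])
      (by show π₁ (σ V) = sub _ mU₁ (π₁ V); rw [hP, π₁_V, map_zero])
      (by show π₁ (σ U) ∈ m₁ k; exact mU₁) (by show π₁ (σ V) ∈ m₁ k; exact mV₁)
    have e2 : π₂.comp (σ : A₁ →ₐ[k] A₁) = (sub (π₂ (σ V)) mV₂).comp π₂ := hext h2
      (by show π₂ (σ U) = sub _ mV₂ (π₂ U); rw [hP₂, π₂_U, map_zero])
      (by show π₂ (σ V) = sub _ mV₂ (π₂ V); rw [π₂_V h2, sub_X])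
      (by show π₂ (σ U) ∈ m₁ k; exact mU₂) (by show π₂ (σ V) ∈ m₁ k; exact mV₂)
    have e1' : ∀ z, π₁ (σ z) = sub (π₁ (σ U)) mU₁ (π₁ z) := fun z => AlgHom.congr_fun e1 z
    have e2' : ∀ z, π₂ (σ z) = sub (π₂ (σ V)) mV₂ (π₂ z) := fun z => AlgHom.congr_fun e2 z
    -- linearise on a branch
    have lin : ∀ (a : PS) (ha : a ∈ m₁ k), sub a ha a = PowerSeries.X →
        ∃ (s : k) (P : PS), (s = 1 ∨ s = -1) ∧ P ∈ m₁ k ∧ PowerSeries.coeff 1 P ≠ 0 ∧
          sub a ha P = algebraMap k PS s * P := by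
      intro a ha haa
      set s := PowerSeries.coeff 1 a with hs
      have hs2 : s * s = 1 := by
        have := congrArg (PowerSeries.coeff 1) haa
        rwa [coeff_one_sub _ _ ha, PowerSeries.coeff_one_X] at this
      refine ⟨s, PowerSeries.X + algebraMap k PS s * a, mul_self_eq_one_iff.1 hs2,
        add_mem X_mem (Ideal.mul_mem_left _ _ ha), ?_, ?_⟩
      · rw [map_add, PowerSeries.coeff_one_X, ← PowerSeries.C_eq_algebraMap, PowerSeries.coeff_C_mul, ← hs, hs2]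
        intro h
        exact h2 (by linear_combination h)
      · rw [map_add, map_mul, sub_X, haa, AlgHom.commutes, mul_add, ← mul_assoc, ← map_mul, hs2, map_one,
          one_mul, add_comm]
    obtain ⟨s, P, hs, hPm, hP1, hsP⟩ := lin _ mU₁ (by rw [← e1' (σ U), hσ, π₁_U h2])
    obtain ⟨t, Q, ht, hQm, hQ1, htQ⟩ := lin _ mV₂ (by rw [← e2' (σ V), hσ, π₂_V h2])
    obtain ⟨φ, u1, u2, v1, v2⟩ := exists_aut h2 P Q hPm hQm hP1 hQ1
    have sU : σ (φ U) = algebraMap k A₁ s * φ U := eq_of_π h2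
      (by rw [map_mul, AlgHom.commutes, e1', u1, hsP])
      (by rw [map_mul, e2', u2, map_zero, mul_zero])
    have sV : σ (φ V) = algebraMap k A₁ t * φ V := eq_of_π h2
      (by rw [map_mul, e1', v1, map_zero, mul_zero])
      (by rw [map_mul, AlgHom.commutes, e2', v2, htQ])
    rcases hs with rfl | rfl <;> rcases ht with rfl | rfl <;>
      simp only [map_one, map_neg, one_mul, neg_one_mul] at sU sV
    · exact absurd (eq_refl_of_fixed h2 σ φ sU sV) hne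
    · refine ⟨φ, Or.inr (Or.inr (conv φ _ _ ?_ ?_))⟩
      · rw [sU, sV, show (2 : A₁) * φ (ArSing.y k 1) = φ U + φ V from hyU (φ : A₁ →ₐ[k] A₁)]; ring
      · rw [sU, sV, show (2 : A₁) * φ (ArSing.x k 1) = φ U - φ V from hxU (φ : A₁ →ₐ[k] A₁)]; ring
    · obtain ⟨φ', u1', u2', v1', v2'⟩ := exists_aut h2 PowerSeries.X PowerSeries.X X_mem X_mem (by simp) (by simp)
      -- exchange the two branches: `x ↦ -x`, `y ↦ y`
      let wA : A₁ →ₐ[k] A₁ :=
        { toFun := fun q => glue (π₂ q) (π₁ q)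
          map_one' := by simp [glue]
          map_mul' := fun a b => by
            simp only [map_mul]
            exact glue_mul _ _ _ _ (constantCoeff_eq _).symm (constantCoeff_eq _).symm
          map_zero' := by simp [glue]
          map_add' := fun a b => by simp [glue]; ring
          commutes' := fun r => by
            simp only [glue, AlgHom.commutes]
            rw [show algebraMap k PS r = PowerSeries.C r from rfl, PowerSeries.constantCoeff_C]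
            ring }
      have hw1 : ∀ q, π₁ (wA q) = π₂ q := fun q => π₁_glue h2 _ _ (constantCoeff_eq q).symm
      have hw2 : ∀ q, π₂ (wA q) = π₁ q := fun q => π₂_glue h2 _ _
      let w : A₁ ≃ₐ[k] A₁ := AlgEquiv.ofAlgHom wA wA
        (AlgHom.ext fun q => eq_of_π h2 (by simp [hw1, hw2]) (by simp [hw1, hw2]))
        (AlgHom.ext fun q => eq_of_π h2 (by simp [hw1, hw2]) (by simp [hw1, hw2]))
      have wU : w U = V := eq_of_π h2 ((hw1 U).trans (by rw [π₂_U, π₁_V])) ((hw2 U).trans (by rw [π₁_U h2, π₂_V h2]))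
      have wV : w V = U := eq_of_π h2 ((hw1 V).trans (by rw [π₂_V h2, π₁_U h2])) ((hw2 V).trans (by rw [π₁_V, π₂_U]))
      refine ⟨w.trans φ, Or.inr (Or.inr (conv (w.trans φ) _ _ ?_ ?_))⟩
      · rw [show (2 : A₁) * (w.trans φ) (ArSing.y k 1) = (w.trans φ) U + (w.trans φ) V from
          hyU ((w.trans φ : A₁ ≃ₐ[k] A₁) : A₁ →ₐ[k] A₁)]
        simp only [AlgEquiv.trans_apply, wU, wV, sU, sV]; ring
      · rw [show (2 : A₁) * (w.trans φ) (ArSing.x k 1) = (w.trans φ) U - (w.trans φ) V from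
          hxU ((w.trans φ : A₁ ≃ₐ[k] A₁) : A₁ →ₐ[k] A₁)]
        simp only [AlgEquiv.trans_apply, wU, wV, sU, sV]; ring
    · refine ⟨φ, Or.inr (Or.inl (conv φ _ _ ?_ ?_))⟩
      · rw [sU, sV, map_neg φ]
        have e : (2 : A₁) * φ (ArSing.x k 1) = φ U - φ V := hxU (φ : A₁ →ₐ[k] A₁)
        linear_combination e
      · rw [sU, sV, map_neg φ]
        have e : (2 : A₁) * φ (ArSing.y k 1) = φ U + φ V := hyU (φ : A₁ →ₐ[k] A₁)
        linear_combination e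

end Groth.Agent.Lib.NodeInvol
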